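import Mathlib
import Groth.Prelude.Def_CurvBase

set_option autoImplicit false
universe u
open CategoryTheory AlgebraicGeometry

namespace Groth.Agent.H14.NN

/-- The ring map `R → O_{X,x}` attached to `f : X ⟶ Spec R`. -/
noncomputable def rho {R : Type u} [CommRing R] {X : Scheme.{u}}
    (f : X ⟶ Spec (CommRingCat.of R)) (x : X) : R →+* X.presheaf.stalk x :=
  (X.presheaf.germ ⊤ x trivial).hom.comp (Coh.toGlobal f)

end Groth.Agent.H14.NN
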