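import Mathlib
import Groth.Prelude.Def_CurvBase
import Groth.Agent.H14.NF.HGENA
import Groth.Agent.H20.NN_ODP
import Groth.Agent.H31.NN_BCINJ
import Groth.Agent.H1.NN_G2C

set_option autoImplicit false
universe u
open CategoryTheory CategoryTheory.Limits AlgebraicGeometry

namespace Groth.Agent.H14.NN

set_option backward.isDefEq.respectTransparency.types false in
theorem lft_bcSnd (k : Type u) [Field k] (X : Scheme.{u})
    [X.Over (Spec (CommRingCat.of k))] [LocallyOfFiniteType (X ↘ Spec (CommRingCat.of k))]
    (K : Type u) [Field K] [Algebra k K] : LocallyOfFiniteType (Curv2.bcSnd k X K) :=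
  MorphismProperty.pullback_snd _ _ inferInstance

/-- (G2ASM) -/
theorem isReduced_of_atWorstNodal (k : Type u) [Field k] (X : Scheme.{u})
    [X.Over (Spec (CommRingCat.of k))] [LocallyOfFiniteType (X ↘ Spec (CommRingCat.of k))]
    (h : Curv2.AtWorstNodal k X) : IsReduced X := by
  refine Groth.Agent.H1.NN_G2C.isReduced_of_forall_closed k X ?_
  intro x hx
  rcases h x hx with ⟨U, hxU, hsm⟩ | ⟨-, xb, hxb, hodp⟩
  · -- smooth neighbourhood
    haveI := hsm
    let x' : (U : Scheme.{u}) := ⟨x, hxU⟩
    obtain ⟨hd, -⟩ := Groth.Agent.H14.NF.normal_stalk_of_smooth_field (CommRingCat.of k)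
      (Field.toIsField k) (U.ι ≫ (X ↘ Spec (CommRingCat.of k))) x'
    haveI := hd
    have hred : _root_.IsReduced ((U : Scheme.{u}).presheaf.stalk x') := inferInstance
    have hiso : IsIso (U.ι.stalkMap x') := inferInstance
    exact isReduced_of_injective (U.ι.stalkMap x').hom
      (ConcreteCategory.bijective_of_isIso (U.ι.stalkMap x')).injective
  · -- node
    subst hxb
    letI : (Curv2.bc k X (AlgebraicClosure k)).Over (Spec (CommRingCat.of (AlgebraicClosure k))) :=
      ⟨Curv2.bcSnd k X (AlgebraicClosure k)⟩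
    letI := Curv2.stalkAlgebra (AlgebraicClosure k) (Curv2.bc k X (AlgebraicClosure k)) xb
    haveI : LocallyOfFiniteType (Curv2.bcSnd k X (AlgebraicClosure k)) :=
      lft_bcSnd k X (AlgebraicClosure k)
    haveI : IsLocallyNoetherian (Curv2.bc k X (AlgebraicClosure k)) :=
      LocallyOfFiniteType.isLocallyNoetherian (Curv2.bcSnd k X (AlgebraicClosure k))
    haveI : IsNoetherianRing ((Curv2.bc k X (AlgebraicClosure k)).presheaf.stalk xb) :=
      inferInstance
    have hred := Groth.Agent.H20.NN_ODP.isReduced_of_isOrdDoublePt (AlgebraicClosure k) _ hodp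
    exact isReduced_of_injective ((Curv2.bcFst k X (AlgebraicClosure k)).stalkMap xb).hom
      (Groth.Agent.H31.NN_BCINJ.stalkMap_bcFst_injective k X (AlgebraicClosure k) xb)

end Groth.Agent.H14.NN
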