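import Mathlib
import Groth.Prelude.Def_CurvBase
import Groth.Agent.H14.NN.Defs

set_option autoImplicit false
universe u
open CategoryTheory CategoryTheory.Limits AlgebraicGeometry

namespace Groth.Agent.H14.NN

/-- (F2) -/
theorem rho_specializes {R : Type u} [CommRing R] {X : Scheme.{u}}
    (f : X ⟶ Spec (CommRingCat.of R)) {x x' : X} (h : x' ⤳ x) :
    rho f x' = (X.presheaf.stalkSpecializes h).hom.comp (rho f x) := by
  ext r
  have := TopCat.Presheaf.germ_stalkSpecializes_apply X.presheaf (U := ⊤) (y := x) trivial h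
    (Coh.toGlobal f r)
  exact this.symm

end Groth.Agent.H14.NN

namespace Groth.Agent.H14.NN

/-- (F1) -/
theorem asIdeal_eq_comap {R : Type u} [CommRing R] {X : Scheme.{u}}
    (f : X ⟶ Spec (CommRingCat.of R)) (x : X) :
    (f.base x).asIdeal = (IsLocalRing.maximalIdeal (X.presheaf.stalk x)).comap (rho f x) := by
  ext r
  rw [Ideal.mem_comap, IsLocalRing.mem_maximalIdeal, mem_nonunits_iff]
  have h1 : f.base x ∈ (Spec (CommRingCat.of R)).basicOpen
      ((Scheme.ΓSpecIso (CommRingCat.of R)).inv r) ↔ r ∉ (f.base x).asIdeal := by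
    rw [basicOpen_eq_of_affine]
    exact Iff.rfl
  have h2 : f.base x ∈ (Spec (CommRingCat.of R)).basicOpen
      ((Scheme.ΓSpecIso (CommRingCat.of R)).inv r) ↔
      x ∈ X.basicOpen (f.appTop ((Scheme.ΓSpecIso (CommRingCat.of R)).inv r)) := by
    rw [← Scheme.preimage_basicOpen_top]
    exact Iff.rfl
  have h4 := Scheme.mem_basicOpen_top (X := X)
    (f.appTop ((Scheme.ΓSpecIso (CommRingCat.of R)).inv r)) x
  have h3 : rho f x r = X.presheaf.germ ⊤ x trivial
      (f.appTop ((Scheme.ΓSpecIso (CommRingCat.of R)).inv r)) := rfl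
  rw [h3, ← h4, ← h2, h1, not_not]

end Groth.Agent.H14.NN
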