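import Mathlib
import Groth.Prelude.Def_CurvBase
import Groth.Agent.H14.NN.Defs

set_option autoImplicit false
universe u
open CategoryTheory CategoryTheory.Limits AlgebraicGeometry

namespace Groth.Agent.H14.NN

/-- (F3) -/
theorem rho_flat {R : Type u} [CommRing R] {X : Scheme.{u}}
    (f : X ⟶ Spec (CommRingCat.of R)) [Flat f] (x : X) : (rho f x).Flat := by
  obtain ⟨_, ⟨U, hU : IsAffineOpen U, rfl⟩, hxU, -⟩ :=
    X.isBasis_affineOpens.exists_subset_of_mem_open (Set.mem_univ x) isOpen_univ
  have hfl : (f.appLE ⊤ U le_top).hom.Flat :=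
    Flat.flat_appLE f (isAffineOpen_top (Spec (CommRingCat.of R))) hU le_top
  have hiso : (Scheme.ΓSpecIso (CommRingCat.of R)).inv.hom.Flat :=
    RingHom.Flat.of_bijective
      (ConcreteCategory.bijective_of_isIso (Scheme.ΓSpecIso (CommRingCat.of R)).inv)
  have hloc : (X.presheaf.germ U x hxU).hom.Flat := by
    letI := TopCat.Presheaf.algebra_section_stalk X.presheaf ⟨x, hxU⟩
    haveI := hU.isLocalization_stalk ⟨x, hxU⟩
    have : Module.Flat Γ(X, U) (X.presheaf.stalk x) :=
      IsLocalization.flat _ (hU.primeIdealOf ⟨x, hxU⟩).asIdeal.primeCompl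
    exact this
  have heq : rho f x = (X.presheaf.germ U x hxU).hom.comp
      ((f.appLE ⊤ U le_top).hom.comp (Scheme.ΓSpecIso (CommRingCat.of R)).inv.hom) := by
    ext r
    simp only [rho, Coh.toGlobal, RingHom.comp_apply]
    have h1 : f.appLE ⊤ U le_top = f.appTop ≫ X.presheaf.map (homOfLE le_top).op := rfl
    rw [h1]
    simp only [CommRingCat.hom_comp, RingHom.comp_apply]
    exact (TopCat.Presheaf.germ_res_apply X.presheaf (homOfLE le_top) x hxU _).symm
  rw [heq]
  exact (hiso.comp hfl).comp hloc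

end Groth.Agent.H14.NN
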