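import Mathlib
import Groth.Prelude.Def_CurvBase
import Groth.Agent.H14.NN.Defs
import Groth.Agent.H14.NN.F12
import Groth.Agent.H9.FiberStalk

set_option autoImplicit false
universe u
open CategoryTheory CategoryTheory.Limits AlgebraicGeometry

namespace Groth.Agent.H14.NN

set_option backward.isDefEq.respectTransparency.types false in
theorem rho_eq_stalkMap_comp {R : Type u} [CommRing R] {X : Scheme.{u}}
    (f : X ⟶ Spec (CommRingCat.of R)) (z : X) :
    rho f z = (f.stalkMap z).hom.comp (StructureSheaf.toStalk R (f.base z)).hom := by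
  ext r
  have h := Scheme.Hom.germ_stalkMap_apply f ⊤ z trivial
    ((Scheme.ΓSpecIso (CommRingCat.of R)).inv r)
  exact h.symm

set_option backward.isDefEq.respectTransparency.types false in
theorem map_maximalIdeal_eq {R : Type u} [CommRing R] {X : Scheme.{u}}
    (f : X ⟶ Spec (CommRingCat.of R)) (z : X) :
    Ideal.map (f.stalkMap z).hom
      (IsLocalRing.maximalIdeal ((Spec (CommRingCat.of R)).presheaf.stalk (f.base z))) =
    ((IsLocalRing.maximalIdeal (X.presheaf.stalk z)).comap (rho f z)).map (rho f z) := by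
  have h1 : IsLocalRing.maximalIdeal ((Spec (CommRingCat.of R)).presheaf.stalk (f.base z)) =
      Ideal.map (StructureSheaf.toStalk R (f.base z)).hom (f.base z).asIdeal := by
    let k : Algebra R ((Spec (CommRingCat.of R)).presheaf.stalk (f.base z)) :=
      StructureSheaf.stalkAlgebra R (f.base z)
    have : IsLocalization.AtPrime ((Spec (CommRingCat.of R)).presheaf.stalk (f.base z))
        (f.base z).asIdeal := StructureSheaf.IsLocalization.to_stalk R (f.base z)
    have := IsLocalization.AtPrime.map_eq_maximalIdeal (f.base z).asIdeal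
      ((Spec (CommRingCat.of R)).presheaf.stalk (f.base z))
    exact this.symm
  rw [← asIdeal_eq_comap, rho_eq_stalkMap_comp, ← Ideal.map_map]
  exact congrArg _ h1

theorem aux {R : Type u} [CommRing R] {X : Scheme.{u}}
    (f : X ⟶ Spec (CommRingCat.of R)) (s : Spec (CommRingCat.of R)) (y : ↥(f.fiber s)) (x : X)
    (hx : (f.fiberι s).base y = x) :
    Nonempty ((X.presheaf.stalk x ⧸
      ((IsLocalRing.maximalIdeal (X.presheaf.stalk x)).comap (rho f x)).map (rho f x)) ≃+*
      (f.fiber s).presheaf.stalk y) := by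
  subst hx
  exact ⟨(Ideal.quotEquivOfEq (map_maximalIdeal_eq f _).symm).trans
    (Groth.Agent.H9.fiberStalkEquiv f s y)⟩

/-- (F4) -/
theorem nonempty_quot_equiv_fiberStalk {R : Type u} [CommRing R] {X : Scheme.{u}}
    (f : X ⟶ Spec (CommRingCat.of R)) (x : X) :
    ∃ y : ↥(f.fiber (f.base x)), Nonempty ((X.presheaf.stalk x ⧸
      ((IsLocalRing.maximalIdeal (X.presheaf.stalk x)).comap (rho f x)).map (rho f x)) ≃+*
      (f.fiber (f.base x)).presheaf.stalk y) := by
  have hx : x ∈ Set.range (f.fiberι (f.base x)) := by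
    rw [Scheme.Hom.range_fiberι]
    rfl
  obtain ⟨y, hy⟩ := hx
  exact ⟨y, aux f (f.base x) y x hy⟩

end Groth.Agent.H14.NN
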