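import Mathlib
import Groth.Prelude.Def_CurvBase
import Groth.Agent.H14.NN.Defs
import Groth.Agent.H14.NN.F12
import Groth.Agent.H14.NN.F3
import Groth.Agent.H14.NN.F4
import Groth.Agent.H17.NN_RING
import Groth.Agent.H42.NN_GEN
import Groth.Agent.H14.NN.G2ASM

set_option autoImplicit false
universe u
open CategoryTheory CategoryTheory.Limits AlgebraicGeometry

namespace Groth.Agent.H14.NN

set_option backward.isDefEq.respectTransparency.types false in
theorem lft_fiber {X Y : Scheme.{u}} (f : X ⟶ Y) (y : Y) [LocallyOfFiniteType f] :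
    LocallyOfFiniteType (f.fiberToSpecResidueField y) :=
  MorphismProperty.pullback_snd _ _ inferInstance

theorem main {R : Type u} [CommRing R] [IsDedekindDomain R]
    {X : Scheme.{u}} (f : X ⟶ Spec (CommRingCat.of R)) (hf : Curv2.IsNodalFamily f)
    (hgen : ∀ x : X, (f.base x).asIdeal = ⊥ →
      IsDomain (X.presheaf.stalk x) ∧ IsIntegrallyClosed (X.presheaf.stalk x)) :
    ∀ x : X, IsDomain (X.presheaf.stalk x) ∧ IsIntegrallyClosed (X.presheaf.stalk x) := by
  intro x
  obtain ⟨hflat, hlfp, hfib⟩ := hf
  by_cases hx : (f.base x).asIdeal = ⊥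
  · exact hgen x hx
  -- the closed-fibre case
  letI : Algebra R (X.presheaf.stalk x) := (rho f x).toAlgebra
  have halg : algebraMap R (X.presheaf.stalk x) = rho f x := rfl
  haveI : Module.Flat R (X.presheaf.stalk x) := rho_flat f x
  haveI : IsNoetherianRing R := inferInstance
  haveI : IsLocallyNoetherian (Spec (CommRingCat.of R)) := inferInstance
  haveI : LocallyOfFiniteType f := inferInstance
  haveI : IsLocallyNoetherian X := LocallyOfFiniteType.isLocallyNoetherian f
  haveI : IsNoetherianRing (X.presheaf.stalk x) := inferInstance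
  refine Groth.Agent.H17.NN_RING.normal_of_fibre_reduced (R := R) (A := X.presheaf.stalk x)
    ?_ ?_ ?_
  · rw [halg, ← asIdeal_eq_comap]; exact hx
  · rw [halg]
    obtain ⟨y, ⟨e⟩⟩ := nonempty_quot_equiv_fiberStalk f x
    letI : (f.fiber (f.base x)).Over (Spec ((Spec (CommRingCat.of R)).residueField (f.base x))) :=
      ⟨f.fiberToSpecResidueField (f.base x)⟩
    haveI : LocallyOfFiniteType ((f.fiber (f.base x)) ↘
        Spec ((Spec (CommRingCat.of R)).residueField (f.base x))) :=
      lft_fiber f (f.base x)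
    haveI : IsReduced (f.fiber (f.base x)) :=
      Groth.Agent.H14.NN.isReduced_of_atWorstNodal _ _ (hfib (f.base x)).2
    haveI : _root_.IsReduced ((f.fiber (f.base x)).presheaf.stalk y) := inferInstance
    exact isReduced_of_injective e.toRingHom e.injective
  · intro q hq hq0
    rw [halg] at hq0
    obtain ⟨x', h, ⟨e⟩, hqe⟩ := Groth.Agent.H42.NN_GEN.exists_generization x q
    have hx' : (f.base x').asIdeal = ⊥ := by
      rw [asIdeal_eq_comap, rho_specializes f h, ← Ideal.comap_comap, ← hqe, hq0]
    obtain ⟨h1, h2⟩ := hgen x' hx'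
    exact ⟨e.toMulEquiv.isDomain (B := X.presheaf.stalk x'),
      IsIntegrallyClosed.of_equiv e.symm⟩

end Groth.Agent.H14.NN
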